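import Cfsg.Agent.H139.BlockCount
import Cfsg.Agent.H139.DoubleCoset
import Cfsg.Agent.H139.Bruhat
set_option linter.all false

-- part: H139/Young
section
/-!
# Double cosets of Young subgroups

For labellings `la lb : ι → ℕ` of a finite set `ι` let `cnt la lb σ r s` be the number of `i` with
`la i = r` and `lb (σ⁻¹ i) = s`.

* `exists_perm` : two functions with the same fibre sizes differ by a permutation.
* `cnt_eq_iff` : `cnt la lb σ = cnt la lb σ'` iff `σ' = π σ τ` with `la ∘ π = la`, `lb ∘ τ = lb`.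
* `card_range_cnt` : for `la = compLabel a`, `lb = compLabel b` the number of double cosets is the number of
  `ℕ`-matrices with row sums `a` and column sums `b`.
-/

set_option autoImplicit false

namespace Cfsg.Agent.H139.Young

open Finset

/-- Two functions with the same fibre sizes differ by a permutation. -/
theorem exists_perm {ι κ : Type*} [Fintype ι] [DecidableEq κ] (f f' : ι → κ)
    (h : ∀ y, (Finset.univ.filter fun x => f x = y).card = (Finset.univ.filter fun x => f' x = y).card) :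
    ∃ π : Equiv.Perm ι, ∀ x, f' (π x) = f x := by
  classical
  have e : ∀ y, Nonempty ({x // f x = y} ≃ {x // f' x = y}) := by
    intro y
    apply Fintype.card_eq.1
    rw [Fintype.card_subtype, Fintype.card_subtype]
    exact h y
  let e' : (Σ y, {x // f x = y}) ≃ (Σ y, {x // f' x = y}) := Equiv.sigmaCongrRight fun y => (e y).some
  refine ⟨(Equiv.sigmaFiberEquiv f).symm.trans (e'.trans (Equiv.sigmaFiberEquiv f')), ?_⟩
  intro x
  change f' ((e' ⟨f x, x, rfl⟩).2).1 = f x
  exact ((e' ⟨f x, x, rfl⟩).2).2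

theorem perm_apply_inv {ι : Type*} (σ : Equiv.Perm ι) (i : ι) : σ (σ⁻¹ i) = i := by simp

theorem perm_inv_apply {ι : Type*} (σ : Equiv.Perm ι) (i : ι) : σ⁻¹ (σ i) = i := by simp

variable {ι : Type*} [Fintype ι]

/-- The number of `i` with labels `r` and `s`. -/
def cnt (la lb : ι → ℕ) (σ : Equiv.Perm ι) (r s : ℕ) : ℕ :=
  (Finset.univ.filter fun i => la i = r ∧ lb (σ⁻¹ i) = s).card

theorem cnt_mul (la lb : ι → ℕ) (σ π τ : Equiv.Perm ι) (hπ : ∀ i, la (π i) = la i) (hτ : ∀ i, lb (τ i) = lb i) :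
    cnt la lb (π * σ * τ) = cnt la lb σ := by
  funext r s
  refine (Finset.card_bij (fun i _ => π i) ?_ ?_ ?_).symm
  · intro i hi
    simp only [Finset.mem_filter, Finset.mem_univ, true_and, hπ] at hi ⊢
    refine ⟨hi.1, ?_⟩
    have : (π * σ * τ)⁻¹ (π i) = τ⁻¹ (σ⁻¹ i) := by simp [mul_inv_rev]
    rw [this, ← hτ (τ⁻¹ (σ⁻¹ i)), ← hi.2]
    simp
  · intro i _ j _ h
    exact π.injective h
  · intro i hi
    simp only [Finset.mem_filter, Finset.mem_univ, true_and] at hi
    refine ⟨π⁻¹ i, ?_, by simp⟩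
    simp only [Finset.mem_filter, Finset.mem_univ, true_and]
    refine ⟨by rw [← hπ (π⁻¹ i)]; simpa using hi.1, ?_⟩
    have : σ⁻¹ (π⁻¹ i) = τ ((π * σ * τ)⁻¹ i) := by simp [mul_inv_rev]
    rw [this, hτ]
    exact hi.2

theorem exists_of_cnt_eq (la lb : ι → ℕ) (σ σ' : Equiv.Perm ι) (h : cnt la lb σ = cnt la lb σ') :
    ∃ π τ : Equiv.Perm ι, (∀ i, la (π i) = la i) ∧ (∀ i, lb (τ i) = lb i) ∧ σ' = π * σ * τ := by
  classical
  obtain ⟨π, hπ⟩ := exists_perm (fun i => (la i, lb (σ⁻¹ i))) (fun i => (la i, lb (σ'⁻¹ i))) (by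
    rintro ⟨r, s⟩
    have := congrFun (congrFun h r) s
    simpa only [cnt, Prod.mk.injEq] using this)
  refine ⟨π, σ⁻¹ * π⁻¹ * σ', ?_, ?_, ?_⟩
  · intro i
    exact congrArg Prod.fst (hπ i)
  · intro i
    have := congrArg Prod.snd (hπ (π⁻¹ (σ' i)))
    simp only [perm_apply_inv, perm_inv_apply] at this
    exact this.symm
  · group

/-- The number of matrices with given margins. -/
def Marg {m : ℕ} (a b : Fin m → ℕ) : Type := {M : Fin m → Fin m → ℕ // (∀ i, ∑ j, M i j = a i) ∧ (∀ j, ∑ i, M i j = b j)}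

open Cfsg.Agent.H139.BlockCount

theorem cnt_row {n : ℕ} (a b : Fin n → ℕ) (ha : ∑ i, a i = n) (hb : ∑ i, b i = n) (σ : Equiv.Perm (Fin n))
    (i : Fin n) : ∑ j : Fin n, cnt (compLabel a) (compLabel b) σ i.val j.val = a i := by
  rw [← card_label_eq a ha i, Finset.card_eq_sum_card_fiberwise (f := fun x => lab b hb (σ⁻¹ x))
    (t := Finset.univ) (by simp)]
  apply Finset.sum_congr rfl
  intro j _
  rw [cnt, Finset.filter_filter]
  congr 1
  ext x
  simp only [Finset.mem_filter, Finset.mem_univ, true_and, lab, Fin.ext_iff]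

theorem cnt_col {n : ℕ} (a b : Fin n → ℕ) (ha : ∑ i, a i = n) (hb : ∑ i, b i = n) (σ : Equiv.Perm (Fin n))
    (j : Fin n) : ∑ i : Fin n, cnt (compLabel a) (compLabel b) σ i.val j.val = b j := by
  have h1 : (Finset.univ.filter fun i : Fin n => compLabel b i = j.val).card =
      (Finset.univ.filter fun i : Fin n => compLabel b (σ⁻¹ i) = j.val).card := by
    refine Finset.card_bij (fun i _ => σ i) ?_ ?_ ?_
    · intro i hi
      simpa using hi
    · intro i _ k _ h
      exact σ.injective h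
    · intro i hi
      exact ⟨σ⁻¹ i, by simpa using hi, by simp⟩
  rw [← card_label_eq b hb j, h1, Finset.card_eq_sum_card_fiberwise (f := fun x => lab a ha x)
    (t := Finset.univ) (by simp)]
  apply Finset.sum_congr rfl
  intro i _
  rw [cnt, Finset.filter_filter]
  congr 1
  ext x
  simp only [Finset.mem_filter, Finset.mem_univ, true_and, lab, Fin.ext_iff]
  exact and_comm

/-- Every matrix with margins `a`, `b` comes from a permutation. -/
theorem exists_cnt {n : ℕ} (a b : Fin n → ℕ) (ha : ∑ i, a i = n) (hb : ∑ i, b i = n) (M : Marg a b) :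
    ∃ σ : Equiv.Perm (Fin n), ∀ i j : Fin n, cnt (compLabel a) (compLabel b) σ i.val j.val = M.1 i j := by
  classical
  have hcard : Fintype.card (Σ p : Fin n × Fin n, Fin (M.1 p.1 p.2)) = n := by
    rw [Fintype.card_sigma, Fintype.sum_prod_type]
    simp only [Fintype.card_fin]
    rw [Finset.sum_congr rfl (fun i _ => M.2.1 i), ha]
  let e : (Σ p : Fin n × Fin n, Fin (M.1 p.1 p.2)) ≃ Fin n := Fintype.equivFinOfCardEq hcard
  let f : Fin n → Fin n × Fin n := fun x => (e.symm x).1
  have hf : ∀ i j, (Finset.univ.filter fun x => f x = (i, j)).card = M.1 i j := by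
    intro i j
    rw [← Fintype.card_subtype, ← Fintype.card_fin (M.1 i j)]
    apply Fintype.card_congr
    refine (e.symm.subtypeEquiv (q := fun y : (Σ p : Fin n × Fin n, Fin (M.1 p.1 p.2)) => y.1 = (i, j))
      (fun x => Iff.rfl)).trans ?_
    exact Equiv.sigmaSubtype (i, j)
  have hf1 : ∀ i, (Finset.univ.filter fun x => (f x).1 = i).card = a i := by
    intro i
    rw [Finset.card_eq_sum_card_fiberwise (f := fun x => (f x).2) (t := Finset.univ) (by simp), ← M.2.1 i]
    apply Finset.sum_congr rfl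
    intro j _
    rw [← hf i j, Finset.filter_filter]
    congr 1
    ext x
    simp only [Finset.mem_filter, Finset.mem_univ, true_and, Prod.ext_iff]
  have hf2 : ∀ j, (Finset.univ.filter fun x => (f x).2 = j).card = b j := by
    intro j
    rw [Finset.card_eq_sum_card_fiberwise (f := fun x => (f x).1) (t := Finset.univ) (by simp), ← M.2.2 j]
    apply Finset.sum_congr rfl
    intro i _
    rw [← hf i j, Finset.filter_filter]
    congr 1
    ext x
    simp only [Finset.mem_filter, Finset.mem_univ, true_and, Prod.ext_iff]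
    exact and_comm
  obtain ⟨π, hπ⟩ := exists_perm (fun i => lab a ha i) (fun i => (f i).1) (by
    intro y
    rw [hf1, ← card_label_eq a ha y]
    congr 1
    ext x
    simp only [Finset.mem_filter, Finset.mem_univ, true_and, lab, Fin.ext_iff])
  obtain ⟨τ, hτ⟩ := exists_perm (fun i => (f i).2) (fun i => lab b hb i) (by
    intro y
    rw [hf2, ← card_label_eq b hb y]
    congr 1
    ext x
    simp only [Finset.mem_filter, Finset.mem_univ, true_and, lab, Fin.ext_iff])
  refine ⟨(τ * π)⁻¹, ?_⟩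
  intro i j
  rw [← hf i j, cnt]
  refine Finset.card_bij (fun x _ => π x) ?_ ?_ ?_
  · intro x hx
    simp only [Finset.mem_filter, Finset.mem_univ, true_and, inv_inv, Equiv.Perm.mul_apply] at hx ⊢
    refine Prod.ext ?_ ?_
    · rw [hπ x]
      exact Fin.ext hx.1
    · rw [← hτ (π x)]
      exact Fin.ext hx.2
  · intro x _ y _ h
    exact π.injective h
  · intro x hx
    simp only [Finset.mem_filter, Finset.mem_univ, true_and, inv_inv, Equiv.Perm.mul_apply] at hx ⊢
    refine ⟨π⁻¹ x, ⟨?_, ?_⟩, by simp⟩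
    · have := hπ (π⁻¹ x)
      rw [perm_apply_inv, hx] at this
      exact (congrArg Fin.val this).symm
    · have := hτ x
      rw [hx] at this
      rw [perm_apply_inv]
      exact congrArg Fin.val this

theorem card_range_cnt {n : ℕ} (a b : Fin n → ℕ) (ha : ∑ i, a i = n) (hb : ∑ i, b i = n) :
    Nat.card (Set.range (cnt (compLabel a) (compLabel b))) = Nat.card (Marg a b) := by
  refine Nat.card_congr (Equiv.ofBijective (fun x => (⟨fun i j => x.1 i.val j.val, ?_⟩ : Marg a b)) ⟨?_, ?_⟩)
  · obtain ⟨_, σ, rfl⟩ := x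
    exact ⟨cnt_row a b ha hb σ, cnt_col a b ha hb σ⟩
  · rintro ⟨_, σ, rfl⟩ ⟨_, σ', rfl⟩ h
    apply Subtype.ext
    have h' := congrArg Subtype.val h
    funext r s
    by_cases hr : r < n
    · by_cases hs : s < n
      · exact congrFun (congrFun h' ⟨r, hr⟩) ⟨s, hs⟩
      · have : ∀ σ : Equiv.Perm (Fin n), cnt (compLabel a) (compLabel b) σ r s = 0 := by
          intro σ
          rw [cnt, Finset.card_eq_zero, Finset.filter_eq_empty_iff]
          intro i _ hi
          exact hs (hi.2 ▸ compLabel_lt b hb _)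
        change cnt (compLabel a) (compLabel b) σ r s = cnt (compLabel a) (compLabel b) σ' r s
        rw [this, this]
    · have : ∀ σ : Equiv.Perm (Fin n), cnt (compLabel a) (compLabel b) σ r s = 0 := by
        intro σ
        rw [cnt, Finset.card_eq_zero, Finset.filter_eq_empty_iff]
        intro i _ hi
        exact hr (hi.1 ▸ compLabel_lt a ha _)
      change cnt (compLabel a) (compLabel b) σ r s = cnt (compLabel a) (compLabel b) σ' r s
      rw [this, this]
  · intro M
    obtain ⟨σ, hσ⟩ := exists_cnt a b ha hb M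
    refine ⟨⟨_, σ, rfl⟩, ?_⟩
    apply Subtype.ext
    funext i j
    exact hσ i j

/-- **The inner product of two Young permutation characters** of the symmetric group. -/
theorem inner_young {n : ℕ} (a b : Fin n → ℕ) (ha : ∑ i, a i = n) (hb : ∑ i, b i = n) :
    (Nat.card (Equiv.Perm (Fin n)) : ℂ)⁻¹ * ∑ σ : Equiv.Perm (Fin n),
        Cfsg.fixedPointCharacter (Cfsg.youngSubgroup a) σ * Cfsg.fixedPointCharacter (Cfsg.youngSubgroup b) σ =
      (Nat.card (Marg a b) : ℂ) := by
  rw [DoubleCoset.inner_eq_card_range (Cfsg.youngSubgroup a) (Cfsg.youngSubgroup b)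
    (cnt (compLabel a) (compLabel b)), card_range_cnt a b ha hb]
  · intro π hπ σ τ hτ
    exact cnt_mul _ _ σ π τ hπ hτ
  · intro σ σ' h
    obtain ⟨π, τ, hπ, hτ, e⟩ := exists_of_cnt_eq _ _ σ σ' h
    exact ⟨π, hπ, τ, hτ, e⟩

end Cfsg.Agent.H139.Young
end

-- part: H139/FlagInner
section
/-!
# Double cosets of parabolic subgroups of `GL_n(q)` and inner products of flag characters

* `inner_flag` : `⟨1_{P_a}^G, 1_{P_b}^G⟩` is the number of `ℕ`-matrices with row sums `a` and column sums `b`.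
-/

set_option autoImplicit false

namespace Cfsg.Agent.H139.FlagInner

open scoped MatrixGroups
open Matrix Finset
open Cfsg.Agent.H139.Bruhat Cfsg.Agent.H139.Young Cfsg.Agent.H139.BlockCount

variable {F : Type*} [Field F] {n : ℕ}

theorem stable (l : Fin n → ℕ) {p : Matrix (Fin n) (Fin n) F} (hp : p.BlockTriangular l) {v : Fin n → F} {r : ℕ}
    (hv : ∀ i, r ≤ l i → v i = 0) : ∀ i, r ≤ l i → (p *ᵥ v) i = 0 := by
  intro i hi
  rw [Matrix.mulVec, dotProduct]
  apply Finset.sum_eq_zero
  intro j _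
  rcases lt_or_ge (l j) (l i) with h | h
  · rw [hp h, zero_mul]
  · rw [hv j (hi.trans h), mul_zero]

/-- The number of vectors in the intersection of two steps of flags. -/
noncomputable def D (la lb : Fin n → ℕ) (g : GL (Fin n) F) (r s : ℕ) : ℕ :=
  Nat.card {v : Fin n → F // (∀ i, r ≤ la i → v i = 0) ∧
    (∀ j, s ≤ lb j → (((g⁻¹ : GL (Fin n) F) : Matrix (Fin n) (Fin n) F) *ᵥ v) j = 0)}

theorem inv_mulVec_mulVec (p : GL (Fin n) F) (v : Fin n → F) :
    ((p⁻¹ : GL (Fin n) F) : Matrix (Fin n) (Fin n) F) *ᵥ ((p : Matrix (Fin n) (Fin n) F) *ᵥ v) = v := by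
  rw [Matrix.mulVec_mulVec, ← Units.val_mul, inv_mul_cancel, Units.val_one, Matrix.one_mulVec]

theorem mulVec_inv_mulVec (p : GL (Fin n) F) (v : Fin n → F) :
    (p : Matrix (Fin n) (Fin n) F) *ᵥ (((p⁻¹ : GL (Fin n) F) : Matrix (Fin n) (Fin n) F) *ᵥ v) = v := by
  rw [Matrix.mulVec_mulVec, ← Units.val_mul, mul_inv_cancel, Units.val_one, Matrix.one_mulVec]

theorem D_mul (a b : Fin n → ℕ) {p q : GL (Fin n) F} (hp : p ∈ parabolicGL n F a) (hq : q ∈ parabolicGL n F b)
    (g : GL (Fin n) F) : D (compLabel a) (compLabel b) (p * g * q) = D (compLabel a) (compLabel b) g := by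
  funext r s
  have hp' : ((p⁻¹ : GL (Fin n) F) : Matrix (Fin n) (Fin n) F).BlockTriangular (compLabel a) :=
    (parabolicGL n F a).inv_mem hp
  have hq' : ((q⁻¹ : GL (Fin n) F) : Matrix (Fin n) (Fin n) F).BlockTriangular (compLabel b) :=
    (parabolicGL n F b).inv_mem hq
  have e : ∀ v : Fin n → F, (((p * g * q)⁻¹ : GL (Fin n) F) : Matrix (Fin n) (Fin n) F) *ᵥ v =
      ((q⁻¹ : GL (Fin n) F) : Matrix (Fin n) (Fin n) F) *ᵥ (((g⁻¹ : GL (Fin n) F) : Matrix (Fin n) (Fin n) F) *ᵥ
        (((p⁻¹ : GL (Fin n) F) : Matrix (Fin n) (Fin n) F) *ᵥ v)) := by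
    intro v
    rw [Matrix.mulVec_mulVec, Matrix.mulVec_mulVec, ← Units.val_mul, ← Units.val_mul]
    congr 2
    group
  refine Nat.card_congr ⟨fun v => ⟨((p⁻¹ : GL (Fin n) F) : Matrix (Fin n) (Fin n) F) *ᵥ v.1,
    stable _ hp' v.2.1, ?_⟩, fun v => ⟨(p : Matrix (Fin n) (Fin n) F) *ᵥ v.1, stable _ hp v.2.1, ?_⟩, ?_, ?_⟩
  · intro j hj
    have h1 := stable (compLabel b) hq v.2.2 j hj
    rw [e, mulVec_inv_mulVec] at h1
    exact h1
  · intro j hj
    rw [e, inv_mulVec_mulVec]
    exact stable (compLabel b) hq' v.2.2 j hj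
  · intro v
    exact Subtype.ext (mulVec_inv_mulVec p v.1)
  · intro v
    exact Subtype.ext (inv_mulVec_mulVec p v.1)

theorem card_coord [Fintype F] (S : Finset (Fin n)) :
    Nat.card {v : Fin n → F // ∀ i, i ∉ S → v i = 0} = Fintype.card F ^ S.card := by
  classical
  have e : {v : Fin n → F // ∀ i, i ∉ S → v i = 0} ≃ ({i // i ∈ S} → F) := by
    refine ⟨fun v i => v.1 i.1, fun w => ⟨fun i => if h : i ∈ S then w ⟨i, h⟩ else 0, ?_⟩, ?_, ?_⟩
    · intro i hi
      exact dif_neg hi
    · intro v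
      apply Subtype.ext
      funext i
      by_cases h : i ∈ S
      · simp [h]
      · simp [h, v.2 i h]
    · intro w
      funext i
      simp
  rw [Nat.card_congr e, Nat.card_eq_fintype_card, Fintype.card_fun, Fintype.card_coe]

theorem D_perm [Fintype F] (la lb : Fin n → ℕ) (σ : Equiv.Perm (Fin n)) (r s : ℕ) :
    D la lb (permGL F n σ) r s =
      Fintype.card F ^ (Finset.univ.filter fun i => la i < r ∧ lb (σ⁻¹ i) < s).card := by
  rw [← card_coord]
  refine Nat.card_congr (Equiv.subtypeEquivRight ?_)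
  intro v
  rw [← map_inv]
  simp only [permGL_mulVec, inv_inv, Finset.mem_filter, Finset.mem_univ, true_and, not_and_or, not_lt]
  constructor
  · rintro ⟨h1, h2⟩ i (h | h)
    · exact h1 i h
    · have := h2 (σ⁻¹ i) h
      rwa [perm_apply_inv] at this
  · intro h
    refine ⟨fun i hi => h i (Or.inl hi), fun j hj => h (σ j) (Or.inr ?_)⟩
    rw [perm_inv_apply]
    exact hj

theorem cnt_eq_of_D_eq [Fintype F] (la lb : Fin n → ℕ) (σ σ' : Equiv.Perm (Fin n))
    (h : D la lb (permGL F n σ) = D la lb (permGL F n σ')) : cnt la lb σ = cnt la lb σ' := by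
  have h1 : ∀ r s, (Finset.univ.filter fun i => la i < r ∧ lb (σ⁻¹ i) < s).card =
      (Finset.univ.filter fun i => la i < r ∧ lb (σ'⁻¹ i) < s).card := by
    intro r s
    have := congrFun (congrFun h r) s
    rw [D_perm, D_perm] at this
    exact Nat.pow_right_injective Fintype.one_lt_card this
  have split1 : ∀ (ρ : Equiv.Perm (Fin n)) r s, (Finset.univ.filter fun i => la i < r + 1 ∧ lb (ρ⁻¹ i) < s).card =
      (Finset.univ.filter fun i => la i < r ∧ lb (ρ⁻¹ i) < s).card +
      (Finset.univ.filter fun i => la i = r ∧ lb (ρ⁻¹ i) < s).card := by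
    intro ρ r s
    rw [← Finset.card_union_of_disjoint]
    · congr 1
      ext i
      simp only [Finset.mem_filter, Finset.mem_univ, true_and, Finset.mem_union]
      omega
    · rw [Finset.disjoint_filter]
      intro i _ h h'
      omega
  have split2 : ∀ (ρ : Equiv.Perm (Fin n)) r s, (Finset.univ.filter fun i => la i = r ∧ lb (ρ⁻¹ i) < s + 1).card =
      (Finset.univ.filter fun i => la i = r ∧ lb (ρ⁻¹ i) < s).card +
      (Finset.univ.filter fun i => la i = r ∧ lb (ρ⁻¹ i) = s).card := by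
    intro ρ r s
    rw [← Finset.card_union_of_disjoint]
    · congr 1
      ext i
      simp only [Finset.mem_filter, Finset.mem_univ, true_and, Finset.mem_union]
      omega
    · rw [Finset.disjoint_filter]
      intro i _ h h'
      omega
  have h2 : ∀ r s, (Finset.univ.filter fun i => la i = r ∧ lb (σ⁻¹ i) < s).card =
      (Finset.univ.filter fun i => la i = r ∧ lb (σ'⁻¹ i) < s).card := by
    intro r s
    have e1 := split1 σ r s
    have e2 := split1 σ' r s
    rw [h1, h1] at e1
    omega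
  funext r s
  have e1 := split2 σ r s
  have e2 := split2 σ' r s
  rw [h2, h2] at e1
  rw [cnt, cnt]
  omega

theorem permGL_mem (a : Fin n → ℕ) {π : Equiv.Perm (Fin n)} (hπ : ∀ i, compLabel a (π i) = compLabel a i) :
    permGL F n π ∈ parabolicGL n F a := by
  change ((permGL F n π : GL (Fin n) F) : Matrix (Fin n) (Fin n) F).BlockTriangular (compLabel a)
  intro i j hij
  have h1 := permGL_mul_apply π (1 : Matrix (Fin n) (Fin n) F) i j
  rw [Matrix.mul_one] at h1
  rw [h1, Matrix.one_apply_ne]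
  rintro rfl
  rw [← hπ (π⁻¹ i), perm_apply_inv] at hij
  exact lt_irrefl _ hij

theorem compLabel_mono (a : Fin n → ℕ) : Monotone (compLabel a) := by
  intro i j hij
  apply Finset.card_le_card
  intro k hk
  simp only [Finset.mem_filter, Finset.mem_univ, true_and] at hk ⊢
  exact hk.trans hij

theorem upper_le (a : Fin n → ℕ) : upperTriangularGL n F ≤ parabolicGL n F a := by
  intro g hg i j hij
  apply hg
  by_contra hcon
  exact absurd (compLabel_mono a (not_lt.1 hcon)) (not_le_of_gt hij)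

theorem card_range_eq {X Y Z : Type*} (f : X → Y) (g : X → Z) (h : ∀ x x', f x = f x' ↔ g x = g x') :
    Nat.card (Set.range f) = Nat.card (Set.range g) := by
  have hker : Setoid.ker f = Setoid.ker g := by
    ext x x'
    exact h x x'
  rw [← Nat.card_congr (Setoid.quotientKerEquivRange f), ← Nat.card_congr (Setoid.quotientKerEquivRange g), hker]

/-- **The inner product of two flag characters of `GL_n(q)`.** -/
theorem inner_flag [Fintype F] [Fintype (GL (Fin n) F)] (a b : Fin n → ℕ) (ha : ∑ i, a i = n) (hb : ∑ i, b i = n) :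
    (Nat.card (GL (Fin n) F) : ℂ)⁻¹ * ∑ g : GL (Fin n) F,
        Cfsg.fixedPointCharacter (Cfsg.parabolicGL n F a) g * Cfsg.fixedPointCharacter (Cfsg.parabolicGL n F b) g =
      (Nat.card (Marg a b) : ℂ) := by
  have hD : ∀ (g : GL (Fin n) F), ∃ σ, ∃ u ∈ parabolicGL n F a, ∃ v ∈ parabolicGL n F b,
      g = u * permGL F n σ * v ∧ D (compLabel a) (compLabel b) g =
        D (compLabel a) (compLabel b) (permGL F n σ) := by
    intro g
    obtain ⟨u, hu, σ, v, hv, e⟩ := bruhat g
    refine ⟨σ, u, upper_le a hu, v, upper_le b hv, e, ?_⟩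
    rw [e, D_mul a b (upper_le a hu) (upper_le b hv)]
  rw [DoubleCoset.inner_eq_card_range (parabolicGL n F a) (parabolicGL n F b)
    (D (compLabel a) (compLabel b)), ← card_range_cnt a b ha hb]
  · congr 1
    have h1 : Set.range (D (F := F) (compLabel a) (compLabel b)) =
        Set.range (fun σ => D (compLabel a) (compLabel b) (permGL F n σ)) := by
      ext z
      constructor
      · rintro ⟨g, rfl⟩
        obtain ⟨σ, _, _, _, _, _, e⟩ := hD g
        exact ⟨σ, e.symm⟩
      · rintro ⟨σ, rfl⟩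
        exact ⟨_, rfl⟩
    rw [h1]
    apply card_range_eq
    intro σ σ'
    refine ⟨cnt_eq_of_D_eq _ _ σ σ', fun h => ?_⟩
    obtain ⟨π, τ, hπ, hτ, e⟩ := exists_of_cnt_eq _ _ σ σ' h
    rw [e, map_mul, map_mul, D_mul a b (permGL_mem a hπ) (permGL_mem b hτ)]
  · intro p hp g q hq
    exact D_mul a b hp hq g
  · intro g g' h
    obtain ⟨σ, u, hu, v, hv, e, hDσ⟩ := hD g
    obtain ⟨σ', u', hu', v', hv', e', hDσ'⟩ := hD g'
    rw [hDσ, hDσ'] at h
    obtain ⟨π, τ, hπ, hτ, e2⟩ := exists_of_cnt_eq _ _ σ σ' (cnt_eq_of_D_eq _ _ σ σ' h)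
    refine ⟨u' * permGL F n π * u⁻¹, mul_mem (mul_mem hu' (permGL_mem a hπ)) (inv_mem hu),
      v⁻¹ * permGL F n τ * v', mul_mem (mul_mem (inv_mem hv) (permGL_mem b hτ)) hv', ?_⟩
    rw [e', e, e2, map_mul, map_mul]
    group

end Cfsg.Agent.H139.FlagInner
end
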