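import Cfsg.Agent.H614.Chars
import Cfsg.Agent.Characters.Brauer
import Cfsg.Agent.H139.FlagInner
import Cfsg.Agent.H139.Degree
set_option linter.all false

/-!
# The unipotent characters of `GL_n(q)`

* `fixedPointCharacter_young` : the Young permutation character counts invariant functions;
* `inner_unipotent` : orthonormality of the functions `unipotentCharacterGL`;
* `isIrr_unipotent` : they are irreducible characters.
-/

set_option autoImplicit false

namespace Cfsg.Agent.H139.Unipotent

open scoped MatrixGroups ComplexConjugate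
open Finset
open Cfsg.Agent.H139.Young Cfsg.Agent.H139.BlockCount Cfsg.Agent.H139.FlagInner

variable {n : ℕ}

/-- The labelling as an element of `FibSet`. -/
def baseFib (a : Fin n → ℕ) (ha : ∑ i, a i = n) : H614.FibSet (Fin n) a :=
  ⟨lab a ha, fun j => by
    rw [← card_label_eq a ha j]
    congr 1
    ext x
    simp only [Finset.mem_filter, Finset.mem_univ, true_and, lab, Fin.ext_iff]⟩

theorem smul_base_eq_iff (a : Fin n → ℕ) (ha : ∑ i, a i = n) (σ τ : Equiv.Perm (Fin n)) :
    σ • baseFib a ha = τ • baseFib a ha ↔ σ⁻¹ * τ ∈ Cfsg.youngSubgroup a := by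
  have h1 : σ • baseFib a ha = τ • baseFib a ha ↔ (σ⁻¹ * τ) • baseFib a ha = baseFib a ha := by
    rw [mul_smul, inv_smul_eq_iff, eq_comm]
  rw [h1]
  constructor
  · intro h i
    have h2 := congrArg Fin.val (congrFun (congrArg Subtype.val h) ((σ⁻¹ * τ) i))
    rw [H614.smul_fib, perm_inv_apply] at h2
    exact h2.symm
  · intro h
    apply Subtype.ext
    funext x
    rw [H614.smul_fib]
    apply Fin.ext
    have := h ((σ⁻¹ * τ)⁻¹ x)
    rw [perm_apply_inv] at this
    exact this.symm

/-- The cosets of a Young subgroup are the functions with given fibre sizes. -/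
noncomputable def cosetFib (a : Fin n → ℕ) (ha : ∑ i, a i = n) :
    (Equiv.Perm (Fin n) ⧸ Cfsg.youngSubgroup a) → H614.FibSet (Fin n) a :=
  Quotient.lift (fun σ => σ • baseFib a ha) (fun σ τ h => by
    rw [smul_base_eq_iff]
    exact QuotientGroup.leftRel_apply.1 h)

theorem cosetFib_mk (a : Fin n → ℕ) (ha : ∑ i, a i = n) (σ : Equiv.Perm (Fin n)) :
    cosetFib a ha (QuotientGroup.mk σ) = σ • baseFib a ha := rfl

theorem cosetFib_bijective (a : Fin n → ℕ) (ha : ∑ i, a i = n) : Function.Bijective (cosetFib a ha) := by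
  constructor
  · intro x y h
    induction x using QuotientGroup.induction_on with | H x => ?_
    induction y using QuotientGroup.induction_on with | H y => ?_
    rw [cosetFib_mk, cosetFib_mk, smul_base_eq_iff] at h
    exact QuotientGroup.eq.2 h
  · intro f
    obtain ⟨π, hπ⟩ := exists_perm (fun i => lab a ha i) f.1 (by
      intro y
      rw [f.2 y]
      exact (baseFib a ha).2 y)
    refine ⟨QuotientGroup.mk π, ?_⟩
    rw [cosetFib_mk]
    apply Subtype.ext
    funext x
    rw [H614.smul_fib]
    change lab a ha (π⁻¹ x) = f.1 x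
    rw [← hπ (π⁻¹ x), perm_apply_inv]

theorem cosetFib_smul (a : Fin n → ℕ) (ha : ∑ i, a i = n) (g : Equiv.Perm (Fin n))
    (x : Equiv.Perm (Fin n) ⧸ Cfsg.youngSubgroup a) : cosetFib a ha (g • x) = g • cosetFib a ha x := by
  induction x using QuotientGroup.induction_on with | H x => ?_
  change cosetFib a ha (QuotientGroup.mk (g * x)) = _
  rw [cosetFib_mk, cosetFib_mk, mul_smul]

theorem fixedPointCharacter_young (a : Fin n → ℕ) (ha : ∑ i, a i = n) (g : Equiv.Perm (Fin n)) :
    Cfsg.fixedPointCharacter (Cfsg.youngSubgroup a) g = (H614.cnt g a : ℂ) := by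
  rw [Cfsg.fixedPointCharacter, ← H614.card_fixedBy_fib]
  congr 1
  refine Nat.card_congr ((Equiv.ofBijective _ (cosetFib_bijective a ha)).subtypeEquiv ?_)
  intro x
  rw [MulAction.mem_fixedBy, MulAction.mem_fixedBy]
  change g • x = x ↔ g • cosetFib a ha x = cosetFib a ha x
  rw [← cosetFib_smul]
  exact (cosetFib_bijective a ha).1.eq_iff.symm

theorem expand {G : Type*} [Fintype G] {K : Type*} [Fintype K] (c : ℂ) (f f' : K → G → ℂ) (P P' : K → Prop)
    [DecidablePred P] [DecidablePred P'] (s : K → ℂ) :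
    c * ∑ g, (∑ k, if P k then s k * f k g else 0) * (∑ k, if P' k then s k * f' k g else 0) =
      ∑ k, ∑ k', if P k ∧ P' k' then s k * s k' * (c * ∑ g, f k g * f' k' g) else 0 := by
  simp only [Finset.sum_mul_sum]
  rw [Finset.sum_comm, Finset.mul_sum]
  apply Finset.sum_congr rfl
  intro k _
  rw [Finset.sum_comm, Finset.mul_sum]
  apply Finset.sum_congr rfl
  intro k' _
  by_cases h : P k
  · by_cases h' : P' k'
    · simp only [h, h', and_self, if_true]
      rw [Finset.mul_sum, Finset.mul_sum, Finset.mul_sum]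
      apply Finset.sum_congr rfl
      intro g _
      ring
    · simp [h, h']
  · simp [h]

theorem sum_eq_of_valid (ν : Fin n → ℕ) (hsum : ∑ i, ν i = n) (κ : Equiv.Perm (Fin n))
    (hκ : ∀ i : Fin n, (κ i).val ≤ ν i + i.val) : ∑ i, (ν i + i.val - (κ i).val) = n :=
  Degree.sum_sub_eq ν hsum κ hκ

/-- The inner products of the unipotent characters are those of the characters of the symmetric group. -/
theorem inner_eq {F : Type*} [Field F] [Fintype F] [Fintype (GL (Fin n) F)] (ν ν' : Fin n → ℕ)
    (hsum : ∑ i, ν i = n) (hsum' : ∑ i, ν' i = n) :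
    (Nat.card (GL (Fin n) F) : ℂ)⁻¹ * ∑ g : GL (Fin n) F,
        Cfsg.unipotentCharacterGL n F ν g * Cfsg.unipotentCharacterGL n F ν' g =
      (H614.pair (fun i => ν i + i.val) (fun i => ν' i + i.val) : ℂ) := by
  classical
  have hsn : (Nat.card (Equiv.Perm (Fin n)) : ℂ)⁻¹ * ∑ g : Equiv.Perm (Fin n),
      (H614.FV g (fun i => ν i + i.val) : ℂ) * (H614.FV g (fun i => ν' i + i.val) : ℂ) =
      (H614.pair (fun i => ν i + i.val) (fun i => ν' i + i.val) : ℂ) := by
    have h := H614.classInner_ch (α := Fin n) (β := fun i : Fin n => ν i + i.val)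
      (by rw [Finset.sum_add_distrib, hsum, Fintype.card_fin]) (fun i => ν' i + i.val)
    rw [Characters.Core.classInner_def] at h
    simp only [H614.conj_ch] at h
    rw [← h]
    congr 1
    apply Finset.sum_congr rfl
    intro g _
    rw [H614.ch_apply, H614.ch_apply, H614.FM_ty, H614.FM_ty]
  rw [← hsn]
  have e1 : ∀ (ν : Fin n → ℕ) (g : GL (Fin n) F), Cfsg.unipotentCharacterGL n F ν g =
      ∑ κ : Equiv.Perm (Fin n), if (∀ i : Fin n, (κ i).val ≤ ν i + i.val) then
      ((Equiv.Perm.sign κ : ℤ) : ℂ) *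
        Cfsg.fixedPointCharacter (Cfsg.parabolicGL n F fun i => ν i + i.val - (κ i).val) g else 0 :=
    fun ν g => rfl
  have e2 : ∀ (ν : Fin n → ℕ) (hsum : ∑ i, ν i = n) (g : Equiv.Perm (Fin n)),
      (H614.FV g (fun i => ν i + i.val) : ℂ) =
      ∑ κ : Equiv.Perm (Fin n), if (∀ i : Fin n, (κ i).val ≤ ν i + i.val) then
      ((Equiv.Perm.sign κ : ℤ) : ℂ) *
        Cfsg.fixedPointCharacter (Cfsg.youngSubgroup fun i => ν i + i.val - (κ i).val) g else 0 := by
    intro ν hsum g
    rw [H614.FV, Int.cast_sum]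
    apply Finset.sum_congr rfl
    intro κ _
    by_cases h : ∀ i : Fin n, (κ i).val ≤ ν i + i.val
    · rw [if_pos h, if_pos h, fixedPointCharacter_young _ (sum_eq_of_valid ν hsum κ h)]
      push_cast
      rfl
    · rw [if_neg h, if_neg h, Int.cast_zero]
  simp only [e1, e2 ν hsum, e2 ν' hsum']
  rw [expand, expand]
  apply Finset.sum_congr rfl
  intro κ _
  apply Finset.sum_congr rfl
  intro κ' _
  by_cases h : (∀ i : Fin n, (κ i).val ≤ ν i + i.val) ∧ (∀ i : Fin n, (κ' i).val ≤ ν' i + i.val)
  · rw [if_pos h, if_pos h, inner_flag _ _ (sum_eq_of_valid ν hsum κ h.1) (sum_eq_of_valid ν' hsum' κ' h.2),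
      inner_young _ _ (sum_eq_of_valid ν hsum κ h.1) (sum_eq_of_valid ν' hsum' κ' h.2)]
  · rw [if_neg h, if_neg h]

theorem strictMono_add {ν : Fin n → ℕ} (h : Monotone ν) : StrictMono fun i : Fin n => ν i + i.val := by
  intro i j hij
  have h1 := h hij.le
  have h2 : i.val < j.val := hij
  change ν i + i.val < ν j + j.val
  omega

theorem conj_unipotent {F : Type*} [Field F] (ν : Fin n → ℕ) (g : GL (Fin n) F) :
    conj (Cfsg.unipotentCharacterGL n F ν g) = Cfsg.unipotentCharacterGL n F ν g := by
  rw [Cfsg.unipotentCharacterGL, map_sum]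
  apply Finset.sum_congr rfl
  intro κ _
  split_ifs
  · rw [map_mul, Cfsg.fixedPointCharacter, Complex.conj_natCast, map_intCast]
  · rw [map_zero]

/-- **Orthonormality of the unipotent characters.** -/
theorem inner_unipotent {F : Type*} [Field F] [Fintype F] [Fintype (GL (Fin n) F)] (ν ν' : Fin n → ℕ)
    (hmono : Monotone ν) (hsum : ∑ i, ν i = n) (hmono' : Monotone ν') (hsum' : ∑ i, ν' i = n) :
    Cfsg.classInner (Cfsg.unipotentCharacterGL n F ν) (Cfsg.unipotentCharacterGL n F ν') =
      if ν = ν' then 1 else 0 := by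
  rw [Characters.Core.classInner_def]
  simp only [conj_unipotent]
  rw [inner_eq ν ν' hsum hsum']
  split_ifs with h
  · subst h
    rw [H614.pair_self_of_strictMono (strictMono_add hmono), Int.cast_one]
  · rw [H614.pair_eq_zero_of_strictMono (strictMono_add hmono) (strictMono_add hmono'), Int.cast_zero]
    intro h'
    apply h
    funext i
    have := congrFun h' i
    simpa using this

theorem isCharacter_fixedPoint {G : Type*} [Group G] [Finite G] (H : Subgroup G) :
    Cfsg.IsCharacter G (Cfsg.fixedPointCharacter H) :=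
  Cfsg.Agent.S0157.isCharacter_fixedBy (G ⧸ H)

theorem isGen_sum {G : Type*} [Group G] {ι : Type*} (s : Finset ι) (f : ι → G → ℂ)
    (h : ∀ i ∈ s, Cfsg.IsGeneralizedCharacter G (f i)) : Cfsg.IsGeneralizedCharacter G (∑ i ∈ s, f i) := by
  classical
  induction s using Finset.induction_on with
  | empty => rw [Finset.sum_empty]; exact Characters.Brauer.isGeneralizedCharacter_zero
  | insert a s ha ih =>
    rw [Finset.sum_insert ha]
    exact Characters.Brauer.isGeneralizedCharacter_add (h a (Finset.mem_insert_self a s))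
      (ih fun i hi => h i (Finset.mem_insert_of_mem hi))

theorem isGen_unipotent {F : Type*} [Field F] [Fintype F] (ν : Fin n → ℕ) :
    Cfsg.IsGeneralizedCharacter (GL (Fin n) F) (Cfsg.unipotentCharacterGL n F ν) := by
  have h1 : Cfsg.unipotentCharacterGL n F ν = ∑ κ : Equiv.Perm (Fin n),
      (fun g => if (∀ i : Fin n, (κ i).val ≤ ν i + i.val) then
      ((Equiv.Perm.sign κ : ℤ) : ℂ) *
        Cfsg.fixedPointCharacter (Cfsg.parabolicGL n F fun i => ν i + i.val - (κ i).val) g else 0) := by
    funext g
    rw [Finset.sum_apply]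
    rfl
  rw [h1]
  apply isGen_sum
  intro κ _
  have hc := Characters.Brauer.isGeneralizedCharacter_of_isCharacter
    (isCharacter_fixedPoint (Cfsg.parabolicGL n F fun i => ν i + i.val - (κ i).val))
  split_ifs with h
  · rcases Int.units_eq_one_or (Equiv.Perm.sign κ) with hs | hs
    · convert hc using 1
      funext g
      rw [hs]
      simp
    · convert Characters.Brauer.isGeneralizedCharacter_neg hc using 1
      funext g
      rw [hs]
      simp
  · exact Characters.Brauer.isGeneralizedCharacter_zero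

/-- **The unipotent characters of `GL_n(q)` are irreducible.** -/
theorem isIrr_unipotent {F : Type*} [Field F] [Fintype F] (ν : Fin n → ℕ) (hmono : Monotone ν)
    (hsum : ∑ i, ν i = n) : Cfsg.IsIrrCharacter (GL (Fin n) F) (Cfsg.unipotentCharacterGL n F ν) := by
  classical
  have : Fintype (GL (Fin n) F) := Fintype.ofFinite _
  rcases Characters.Core.isIrr_of_generalized (isGen_unipotent (F := F) ν)
    (by rw [inner_unipotent ν ν hmono hsum hmono hsum, if_pos rfl]) with h | h
  · exact h
  · exfalso
    obtain ⟨k, hk, e⟩ := Characters.Core.isIrr_apply_one h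
    obtain ⟨r, hr, e'⟩ := Degree.degree_pos (F := F) ν hmono hsum
    rw [Pi.neg_apply, e'] at e
    have e2 : -r = (k : ℝ) := by exact_mod_cast e
    have hk' : (0 : ℝ) < k := Nat.cast_pos.2 hk
    linarith

/-- **The unipotent characters of different partitions are different.** -/
theorem unipotent_injective {F : Type*} [Field F] [Fintype F] (ν ν' : Fin n → ℕ)
    (hmono : Monotone ν) (hsum : ∑ i, ν i = n) (hmono' : Monotone ν') (hsum' : ∑ i, ν' i = n)
    (h : Cfsg.unipotentCharacterGL n F ν = Cfsg.unipotentCharacterGL n F ν') : ν = ν' := by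
  classical
  have : Fintype (GL (Fin n) F) := Fintype.ofFinite _
  by_contra hne
  have h1 := inner_unipotent (F := F) ν ν' hmono hsum hmono' hsum'
  rw [← h, inner_unipotent ν ν hmono hsum hmono hsum, if_pos rfl, if_neg hne] at h1
  exact one_ne_zero h1

end Cfsg.Agent.H139.Unipotent
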